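import Groth.Agent.S17465
import Groth.Agent.S3030
import Groth.Agent.Chev.TorusExt
import Groth.Agent.Chev.Exponent
import Groth.Agent.Chev.AntiAff
import Groth.Agent.Chev.LargestSA
import Groth.Agent.Chev.TorsionFinite
import Groth.Agent.GrpField.SurjSmooth
import Groth.Agent.GmDD.Restrict
import Groth.Agent.MTBridge.SubEqNil
import Groth.Agent.MTBridge.Charts
import Groth.Agent.GrpComp.Identity
import Groth.Agent.SpQS.DegRank
import Groth.Agent.GmDual13480.Torus

/-!
A group whose coordinate ring is finite over its characters is an almost-torus.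
-/

set_option autoImplicit false
set_option backward.isDefEq.respectTransparency false
set_option backward.isDefEq.respectTransparency.types false
set_option linter.style.haveILetI false
set_option maxHeartbeats 1000000
set_option synthInstance.maxHeartbeats 400000

universe u

open CategoryTheory CategoryTheory.Limits AlgebraicGeometry TopologicalSpace
open MonoidalCategory CartesianMonoidalCategory TensorProduct
open scoped MonObj

noncomputable section

namespace Groth.Agent.GmDual13481

open MTBridge (specGrp)

variable {K : Type u} [Field K] [IsAlgClosed K]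

/-- A homomorphism with finite underlying map onto a torus's subgroup: the map to a split torus from characters. -/
theorem exists_finite_to_torus (A : Type u) [CommRing A] [HopfAlgebra K A] [Coalgebra.IsCocomm K A]
    [Algebra.FiniteType K A] (S : Subalgebra K A) (hS : S ≤ Algebra.adjoin K {x : A | IsGroupLikeElem K x})
    [Module.Finite ↥S A] :
    ∃ (P : Over (Spec (CommRingCat.of K))) (_ : GrpObj P) (π : (specGrp K A).X ⟶ P),
      Red.IsTorus P ∧ IsMonHom π ∧ IsFinite π.left := by
  classical
  haveI : IsNoetherianRing A := Algebra.FiniteType.isNoetherianRing K A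
  haveI := GmDD.fg_groupLike (k := K) (B := A)
  obtain ⟨T, hT⟩ := (Group.fg_iff.1 (inferInstance : Group.FG (GroupLike K A)))
  obtain ⟨hT, hTfin⟩ := hT
  haveI := hTfin.fintype
  let r := Fintype.card T
  let t : Fin r → GroupLike K A := fun i => ((Fintype.equivFin T).symm i).1
  let φ : Multiplicative (Fin r → ℤ) →* GroupLike K A :=
    { toFun := fun v => ∏ i, t i ^ (Multiplicative.toAdd v i)
      map_one' := by simp
      map_mul' := fun v w => by
        rw [← Finset.prod_mul_distrib]
        exact Finset.prod_congr rfl fun i _ => zpow_add (t i) _ _ }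
  have hφ : Function.Surjective φ := by
    rw [← MonoidHom.range_eq_top, eq_top_iff, ← hT, Subgroup.closure_le]
    intro x hx
    refine ⟨Multiplicative.ofAdd (Pi.single (Fintype.equivFin T ⟨x, hx⟩) (1 : ℤ)), ?_⟩
    show ∏ i, t i ^ (Pi.single (Fintype.equivFin T ⟨x, hx⟩) (1 : ℤ) : Fin r → ℤ) i = x
    rw [Finset.prod_eq_single (Fintype.equivFin T ⟨x, hx⟩)]
    · simp [t]
    · intro i _ hi; simp [hi]
    · intro h; exact absurd (Finset.mem_univ _) h
  let f : MonoidAlgebra K (Multiplicative (Fin r → ℤ)) →ₐc[K] A :=
    (MonoidAlgebra.liftGroupLikeBialgHom).comp (MonoidAlgebra.mapDomainBialgHom K φ)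
  have hf : ∀ v, f (MonoidAlgebra.single v 1) = (φ v).val := fun v => by
    simp [f]
  have hrange : S ≤ (f : MonoidAlgebra K (Multiplicative (Fin r → ℤ)) →ₐ[K] A).range := by
    refine hS.trans (Algebra.adjoin_le fun x hx => ?_)
    obtain ⟨v, hv⟩ := hφ ⟨x, hx⟩
    exact ⟨MonoidAlgebra.single v 1, (hf v).trans (congrArg GroupLike.val hv)⟩
  have hfin : (f : MonoidAlgebra K (Multiplicative (Fin r → ℤ)) →ₐ[K] A).toRingHom.Finite := by
    letI := (f : MonoidAlgebra K (Multiplicative (Fin r → ℤ)) →ₐ[K] A).toRingHom.toAlgebra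
    show Module.Finite (MonoidAlgebra K (Multiplicative (Fin r → ℤ))) A
    obtain ⟨s, hs⟩ := (inferInstance : Module.Finite ↥S A).fg_top
    refine ⟨⟨s, eq_top_iff.2 fun x _ => ?_⟩⟩
    have hx : x ∈ Submodule.span ↥S (s : Set A) := hs ▸ Submodule.mem_top
    induction hx using Submodule.span_induction with
    | mem y hy => exact Submodule.subset_span hy
    | zero => exact zero_mem _
    | add p q _ _ hp hq => exact add_mem (hp trivial) (hq trivial)
    | smul c p _ hp =>
      obtain ⟨b, hb⟩ := hrange c.2
      have := Submodule.smul_mem (Submodule.span (MonoidAlgebra K (Multiplicative (Fin r → ℤ))) (s : Set A)) b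
        (hp trivial)
      rw [Algebra.smul_def] at this
      change f b * p ∈ _ at this
      rw [show c • p = f b * p from (congrArg (· * p) hb).symm]
      exact this
  obtain ⟨u, hu, hul⟩ := MTBridge.exists_hom_of_bialgHom f
  obtain ⟨e₃⟩ := MTBridge.nonempty_DS_iso K (Fin r → ℤ)
  refine ⟨_, inferInstance, u, Chev.isTorus_of_isSplit (𝟙 _) (r := r) ⟨Chev.bcIdIso _ ≪≫ e₃.symm⟩, hu, ?_⟩
  rw [hul]
  exact (IsFinite.SpecMap_iff _).2 hfin

/-- Over an algebraically closed field: a commutative group with a finite homomorphism to a torus is an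
almost-torus. -/
theorem exists_torus_finite_quotient (H : Over (Spec (CommRingCat.of K))) [GrpObj H] [IsCommMonObj H]
    [IsAffine H.left] [LocallyOfFiniteType H.hom] (P : Over (Spec (CommRingCat.of K))) [GrpObj P]
    (hP : Red.IsTorus P) (π : H ⟶ P) [IsMonHom π] [IsFinite π.left] :
    ∃ (T Q : Over (Spec (CommRingCat.of K))) (_ : GrpObj T) (_ : GrpObj Q) (j : T ⟶ H) (q : H ⟶ Q),
      IsMonHom j ∧ IsMonHom q ∧ IsClosedImmersion j.left ∧ Red.IsTorus T ∧ AlgGrp.IsKernel j q ∧ Flat q.left ∧
        Surjective q.left ∧ IsFinite Q.hom := by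
  haveI : IsAffine P.left := Chev.isAffine_of_isTorus hP
  haveI : LocallyOfFiniteType P.hom := Chev.locallyOfFiniteType_of_isTorus hP
  haveI : QuasiCompact P.hom := inferInstance
  -- the reduced identity component
  obtain ⟨R, hR, r, hrm, hrc, hrs, hRsm⟩ := Chev.exists_red_group H
  haveI := hrm; haveI := hrc; haveI := hrs; haveI := hRsm
  haveI : IsAffine R.left := isAffine_of_isAffineHom r.left
  haveI : IsLocallyNoetherian R.left := LocallyOfFiniteType.isLocallyNoetherian R.hom
  obtain ⟨T, hTg, incl, hinm, hinc, hinf, hrange, hgi, hTc, -⟩ := GrpComp.exists_identity_subgroup R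
  haveI := hinm; haveI := hinc; haveI := hinf; haveI := hgi; haveI := hTc
  haveI : IsOpenImmersion incl.left := IsOpenImmersion.of_flat_of_mono incl.left
  haveI : Smooth T.hom := by rw [← Over.w incl]; infer_instance
  haveI : IsAffine T.left := isAffine_of_isAffineHom incl.left
  haveI : QuasiCompact T.hom := inferInstance
  haveI : ConnectedSpace T.left := by
    haveI : IrreducibleSpace T.left := GeometricallyIrreducible.irreducibleSpace_of_subsingleton T.hom
    infer_instance
  let j : T ⟶ H := incl ≫ r
  haveI : IsClosedImmersion j.left := inferInstanceAs (IsClosedImmersion (incl.left ≫ r.left))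
  haveI : Mono j.left := inferInstance
  haveI : Mono j := Over.mono_of_mono_left j
  haveI : IsCommMonObj T := ⟨by
    rw [← cancel_mono j, Category.assoc, IsMonHom.mul_hom, ← BraidedCategory.braiding_naturality_assoc,
      IsCommMonObj.mul_comm]⟩
  -- it is a torus
  have htor : Red.IsTorus T := by
    haveI : IsFinite (j ≫ π).left := inferInstanceAs (IsFinite (j.left ≫ π.left))
    obtain ⟨I, hI, ii, g, hiim, hgm, hiic, hgs, hIsm, hIq, hIc, hgi⟩ := Chev.exists_image_smooth (j ≫ π)
    haveI := hiim; haveI := hgm; haveI := hiic; haveI := hgs; haveI := hIsm; haveI := hIq; haveI := hIc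
    haveI : IsAffine I.left := isAffine_of_isAffineHom ii.left
    haveI : Mono ii.left := inferInstance
    haveI : Mono ii := Over.mono_of_mono_left ii
    haveI : IsCommMonObj I := ⟨by
      haveI : IsCommMonObj P := ⟨by
        rw [show μ[P] = fst P P * snd P P from Eq.symm (by rw [Hom.mul_def, lift_fst_snd, Category.id_comp]),
          MonObj.comp_mul, braiding_hom_fst, braiding_hom_snd, RedR1.mul_comm_torus hP]⟩
      rw [← cancel_mono ii, Category.assoc, IsMonHom.mul_hom, ← BraidedCategory.braiding_naturality_assoc,
        IsCommMonObj.mul_comm]⟩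
    haveI : IsFinite (g.left ≫ ii.left) := by rw [← Over.comp_left, hgi]; infer_instance
    haveI : IsFinite g.left := IsFinite.of_comp g.left ii.left
    have hIt : Red.IsTorus I := Chev.isTorus_of_subgroup hP ii
    refine (S17465.result K T I g ⟨inferInstance, fun N a ha => ?_⟩).2 hIt
    have h1 : IsFinite (toUnit N).left :=
      MorphismProperty.of_isPullback (ha.map (Over.forget _)) ‹IsFinite g.left›
    have e : N.hom = (toUnit N).left ≫ 𝟙 _ := (Over.w (toUnit N)).symm
    rw [e, Category.comp_id]
    exact h1
  -- the quotient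
  obtain ⟨Q, hQ, q, hqm, hqf, hqs, hqp, hker, hsep, -, -⟩ := S3030.result K T H j
    (fun X a x => ⟨x, by rw [_root_.mul_comm a, _root_.mul_assoc, mul_inv_cancel, _root_.mul_one]⟩)
  haveI := hqm; haveI := hqf; haveI := hqs; haveI := hqp; haveI := hsep
  haveI : LocallyOfFiniteType Q.hom := by
    haveI : LocallyOfFiniteType (q.left ≫ Q.hom) := by rw [Over.w q]; infer_instance
    exact S5938.result q.left Q.hom
  haveI : QuasiCompact Q.hom := by
    haveI : QuasiCompact (q.left ≫ Q.hom) := by rw [Over.w q]; infer_instance
    exact ThickLib.quasiCompact_of_comp_surjective q.left Q.hom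
  haveI : Finite Q.left := by
    refine Chev.finite_of_component_singleton Q fun x hx => ?_
    have hone : q.left (η[H].left (IsLocalRing.closedPoint K)) = η[Q].left (IsLocalRing.closedPoint K) := by
      rw [← Scheme.Hom.comp_apply, ← Over.comp_left, IsMonHom.one_hom]
    rw [← hone] at hx
    obtain ⟨y, hy, rfl⟩ := Flat.generalizingMap q.left hx
    -- `y` lies in the identity component
    obtain ⟨y', rfl⟩ := r.left.surjective y
    have hη : η[R].left (IsLocalRing.closedPoint K) ∈ Set.range incl.left :=
      ⟨η[T].left (IsLocalRing.closedPoint K), by rw [← Scheme.Hom.comp_apply, ← Over.comp_left, IsMonHom.one_hom]⟩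
    have hηr : r.left (η[R].left (IsLocalRing.closedPoint K)) = η[H].left (IsLocalRing.closedPoint K) := by
      rw [← Scheme.Hom.comp_apply, ← Over.comp_left, IsMonHom.one_hom]
    rw [← hηr, r.left.isEmbedding.isInducing.specializes_iff] at hy
    obtain ⟨z, rfl⟩ := hy.mem_open incl.left.isOpenEmbedding.isOpen_range hη
    have hz : incl ≫ r ≫ q = toUnit T ≫ η[Q] := by rw [← Category.assoc]; exact hker.w
    rw [← Scheme.Hom.comp_apply, ← Scheme.Hom.comp_apply, ← Over.comp_left, ← Over.comp_left, hz,
      Over.comp_left, Scheme.Hom.comp_apply,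
      show (toUnit T).left z = IsLocalRing.closedPoint K from Subsingleton.elim (α := PrimeSpectrum K) _ _]
  haveI : LocallyQuasiFinite Q.hom := .of_finite_preimage_singleton _ fun b => Set.toFinite _
  haveI : IsFinite Q.hom := SpQS.isFinite_of_finite Q.hom
  exact ⟨T, Q, inferInstance, hQ, j, q, inferInstance, hqm, inferInstance, htor, hker, hqf, hqs, ‹_›⟩

end Groth.Agent.GmDual13481
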