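import Groth.Agent.GmDual13480.Rep
import Groth.Agent.GmDD.CharMain
import Mathlib

/-!
When the dual sheaf of `G` is representable, the coordinate ring is finite over its characters.

Infinitesimal deformations of the trivial character all come from one affine chart of the representing scheme,
so their coefficients lie in one finite dimensional space of functions; the universal character on a finite
subcoalgebra then shows that this space, translated by the characters, spans everything.
-/

set_option autoImplicit false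
set_option backward.isDefEq.respectTransparency false
set_option backward.isDefEq.respectTransparency.types false
set_option linter.style.haveILetI false
set_option linter.unusedSectionVars false
set_option maxHeartbeats 1000000
set_option synthInstance.maxHeartbeats 400000

universe u

open CategoryTheory CategoryTheory.Limits AlgebraicGeometry Opposite
open MonoidalCategory CartesianMonoidalCategory
open scoped MonObj TensorProduct
open Groth.Agent.MilnorMoore Groth.Agent.GmDD Groth.Agent.GmDual13480
open Groth.Agent.GaExt hiding charHom charHom_app charHom_one charHom_mul charHom_map chiVal univ pt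

noncomputable section

namespace Groth.Agent.GmDual13481

variable {k : Type u} [Field k] {A : Type u} [CommRing A] [HopfAlgebra k A]
  {G : Over (Spec (CommRingCat.of k))} [GrpObj G] [IsCommMonObj G] (E : Coord A G)

include E in
theorem charHom_injective {R : Type u} [CommRing R] [Algebra k R] {f g : R ⊗[k] A} {hf : IsGL f} {hg : IsGL g}
    (h : charHom E f hf = charHom E g hg) : f = g := by
  let c0 : O k (R ⊗[k] A) ⟶ O k R := Omap Algebra.TensorProduct.includeLeft
  let g0 : O k (R ⊗[k] A) ⟶ G := pt E Algebra.TensorProduct.includeRight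
  have e := congrArg (fun d => (uu (ov d c0 (gS g0)) : Γ((O k (R ⊗[k] A)).left, ⊤))) h
  simp only [charHom_app, c0, g0, val_pt] at e
  have hid : ∀ t : R ⊗[k] A, at' Algebra.TensorProduct.includeLeft Algebra.TensorProduct.includeRight t = t :=
    fun t => by
      induction t using TensorProduct.induction_on with
      | zero => simp
      | tmul r a => simp [at']
      | add p q hp hq => simp only [map_add, hp, hq]
  have e' := fn_bijective.1 e
  rwa [hid, hid] at e'

include E in
theorem exists_inv_isGL {R : Type u} [CommRing R] [Algebra k R] {f : R ⊗[k] A} (hf : IsGL f) :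
    ∃ g : R ⊗[k] A, IsGL g ∧ g * f = 1 := by
  obtain ⟨g, hg, h⟩ := exists_char E (-charHom E f hf)
  refine ⟨g, hg, charHom_injective E (hf := hg.mul' hf) (hg := isGL_one) ?_⟩
  rw [charHom_mul E hg hf, ← h, neg_add_cancel, charHom_one]

include E in
/-- Characters which deform the trivial one have coefficients in a fixed finite dimensional space. -/
theorem exists_bound {D : Over (Spec (CommRingCat.of k))} [GrpObj D] [IsCommMonObj D]
    (e : CGrpSh.pts Scheme.fppfPrecoverage D ≅
      CGrpSh2.dualSh Scheme.fppfPrecoverage (CGrpSh.pts Scheme.fppfPrecoverage G)) :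
    ∃ W : Submodule k A, W.FG ∧ ∀ (C : Type u) [CommRing C] [Algebra k C] (L : Type u) [Field L] [Algebra k L]
      (ρ : C →ₐ[k] L), Function.Surjective ρ → (∀ x, ρ x = 0 → IsNilpotent x) →
      ∀ f : C ⊗[k] A, IsGL f → bc ρ f = 1 → f ∈ LinearMap.range (W.subtype.lTensor C) := by
  classical
  have happ : ∀ {C : Type u} [CommRing C] [Algebra k C] (a : O k C ⟶ D),
      ∃ (f : C ⊗[k] A) (hf : IsGL f), GaExt.app e.hom (pS a) = charHom E f hf := fun {C} _ _ a => exists_char E _
  choose fOf hGL hOf using @happ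
  have hinj : ∀ {C : Type u} [CommRing C] [Algebra k C] (a b : O k C ⟶ D), fOf a = fOf b → a = b := by
    intro C _ _ a b h
    have e1 : GaExt.app e.hom (pS a) = GaExt.app e.hom (pS b) := by rw [hOf, hOf]; simp only [h]
    have e2 := congrArg (GaExt.app e.inv) e1
    have hid : ∀ s, GaExt.app e.inv (GaExt.app e.hom s) = s := fun s => ConcreteCategory.congr_hom
      (congrArg (fun φ : CGrpSh.pts Scheme.fppfPrecoverage D ⟶ CGrpSh.pts Scheme.fppfPrecoverage D =>
        φ.hom.app (op (O k C))) e.hom_inv_id) s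
    rw [hid, hid] at e2
    exact congrArg (fun s => Additive.toMul (ULift.down s)) e2
  have hnat : ∀ {C C' : Type u} [CommRing C] [Algebra k C] [CommRing C'] [Algebra k C'] (σ : C →ₐ[k] C')
      (a : O k C ⟶ D), fOf (Omap σ ≫ a) = bc σ (fOf a) := by
    intro C C' _ _ _ _ σ a
    refine charHom_injective E (hf := hGL _) (hg := (hGL a).map σ) ?_
    rw [← hOf, ← charHom_map E σ (hGL a), ← hOf]
    exact app_res e.hom (Omap σ) (pS a)
  have hone : ∀ (C : Type u) [CommRing C] [Algebra k C], fOf (1 : O k C ⟶ D) = 1 := fun C _ _ => by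
    refine charHom_injective E (hf := hGL _) (hg := isGL_one) ?_
    rw [← hOf, charHom_one]
    exact map_zero _
  have hsurj : ∀ {C : Type u} [CommRing C] [Algebra k C] (f : C ⊗[k] A), IsGL f → ∃ a : O k C ⟶ D, fOf a = f := by
    intro C _ _ f hf
    obtain ⟨a, ha⟩ := pS_surjective (GaExt.app e.inv (charHom E f hf))
    refine ⟨a, charHom_injective E (hf := hGL _) (hg := hf) ?_⟩
    rw [← hOf, ha]
    exact ConcreteCategory.congr_hom
      (congrArg (fun φ : CGrpSh2.dualSh Scheme.fppfPrecoverage (CGrpSh.pts Scheme.fppfPrecoverage G) ⟶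
          CGrpSh2.dualSh Scheme.fppfPrecoverage (CGrpSh.pts Scheme.fppfPrecoverage G) =>
        φ.hom.app (op (O k C))) e.inv_hom_id) _
  -- a chart at the origin
  let z₀ : D.left := η[D].left (IsLocalRing.closedPoint k)
  obtain ⟨U, hU, hzU, -⟩ := exists_isAffineOpen_mem_and_subset (x := z₀) (U := ⊤) trivial
  let B : Type u := Γ(D.left, U)
  let φ := Spec.preimage (hU.fromSpec ≫ D.hom)
  letI : Algebra k B := φ.hom.toAlgebra
  let ιU : O k B ⟶ D := Over.homMk hU.fromSpec (by
    show _ = Spec.map (CommRingCat.ofHom (algebraMap k B))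
    exact (Spec.map_preimage (hU.fromSpec ≫ D.hom)).symm)
  obtain ⟨S, hS⟩ := TensorProduct.exists_finset (fOf ιU)
  refine ⟨Submodule.span k ↑(S.image Prod.snd), Submodule.fg_span (Finset.finite_toSet _),
    fun C _ _ L _ _ ρ hρ hnil f hf hf1 => ?_⟩
  obtain ⟨a, rfl⟩ := hsurj f hf
  have ha : Omap ρ ≫ a = 1 := hinj _ _ (by rw [hnat, hf1, hone])
  have hrange : Set.range a.left ⊆ Set.range hU.fromSpec := by
    rintro _ ⟨x, rfl⟩
    obtain ⟨y, rfl⟩ : x ∈ Set.range (Omap ρ).left := by
      have h := range_comap_of_surjective L ρ.toRingHom hρ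
      have hu : PrimeSpectrum.zeroLocus (RingHom.ker ρ.toRingHom : Set C) = Set.univ :=
        Set.eq_univ_of_forall fun p r hr => by
          obtain ⟨n, hn⟩ := hnil r hr
          exact p.2.mem_of_pow_mem n (by rw [hn]; exact zero_mem _)
      exact (show x ∈ Set.range (PrimeSpectrum.comap ρ.toRingHom) by rw [h, hu]; trivial)
    rw [IsAffineOpen.range_fromSpec, ← Scheme.Hom.comp_apply, ← Over.comp_left, ha,
      show (1 : O k L ⟶ D) = toUnit _ ≫ η[D] from Hom.one_def, Over.comp_left, Scheme.Hom.comp_apply,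
      show (toUnit (O k L)).left y = IsLocalRing.closedPoint k from Subsingleton.elim (α := PrimeSpectrum k) _ _]
    exact hzU
  let b : O k C ⟶ O k B := Over.homMk (IsOpenImmersion.lift hU.fromSpec a.left hrange) (by
    show _ ≫ Spec.map (CommRingCat.ofHom (algebraMap k B)) = _
    rw [show Spec.map (CommRingCat.ofHom (algebraMap k B)) = hU.fromSpec ≫ D.hom from Spec.map_preimage _,
      IsOpenImmersion.lift_fac_assoc, Over.w a])
  obtain ⟨σ, hσ⟩ := exists_Omap b
  have hab : Omap σ ≫ ιU = a := by
    rw [hσ]; exact Over.OverMorphism.ext (IsOpenImmersion.lift_fac _ _ _)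
  rw [← hab, hnat, hS, map_sum]
  refine Submodule.sum_mem _ fun p hp => ⟨σ p.1 ⊗ₜ ⟨p.2, Submodule.subset_span ?_⟩, ?_⟩
  · exact Finset.mem_coe.2 (Finset.mem_image_of_mem _ hp)
  · simp [bc]

section Ext

variable (K : Type u) [Field K] [IsAlgClosed K] [Algebra k K]

/-- A functional on `K ⊗ A` extended to coefficients in a `K`-algebra. -/
def evR (Λ : K ⊗[k] A →ₗ[K] K) (R : Type u) [CommRing R] [Algebra k R] [Algebra K R] [IsScalarTower k K R] :
    R ⊗[k] A →ₗ[k] R :=
  LinearMap.mul' k R ∘ₗ LinearMap.lTensor R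
    (((Algebra.linearMap K R).restrictScalars k) ∘ₗ (Λ.restrictScalars k) ∘ₗ TensorProduct.mk k K A 1)

theorem evR_tmul (Λ : K ⊗[k] A →ₗ[K] K) (R : Type u) [CommRing R] [Algebra k R] [Algebra K R] [IsScalarTower k K R]
    (r : R) (a : A) : evR K Λ R (r ⊗ₜ a) = r * algebraMap K R (Λ (1 ⊗ₜ a)) := by
  simp [evR]

theorem evR_bc (Λ : K ⊗[k] A →ₗ[K] K) {R R' : Type u} [CommRing R] [Algebra k R] [Algebra K R] [IsScalarTower k K R]
    [CommRing R'] [Algebra k R'] [Algebra K R'] [IsScalarTower k K R'] (σ : R →ₐ[K] R') (f : R ⊗[k] A) :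
    evR K Λ R' (bc (σ.restrictScalars k) f) = σ (evR K Λ R f) := by
  induction f using TensorProduct.induction_on with
  | zero => simp
  | tmul r a => simp [bc, evR_tmul]
  | add p q hp hq => simp only [map_add, hp, hq]

theorem evR_shift (Λ : K ⊗[k] A →ₗ[K] K) {R : Type u} [CommRing R] [Algebra k R] [Algebra K R] [IsScalarTower k K R]
    (χ : K ⊗[k] A) (r : R) (w : A) :
    evR K Λ R (bc (IsScalarTower.toAlgHom k K R) χ * (r ⊗ₜ w)) = r * algebraMap K R (Λ (χ * (1 ⊗ₜ w))) := by
  induction χ using TensorProduct.induction_on with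
  | zero => simp
  | tmul s b =>
    simp only [bc, Algebra.TensorProduct.map_tmul, AlgHom.id_apply, Algebra.TensorProduct.tmul_mul_tmul, evR_tmul,
      IsScalarTower.coe_toAlgHom', mul_one]
    rw [show (s ⊗ₜ[k] (b * w) : K ⊗[k] A) = s • ((1 : K) ⊗ₜ[k] (b * w)) by
      rw [TensorProduct.smul_tmul', smul_eq_mul, mul_one], map_smul, smul_eq_mul, map_mul]
    ring
  | add p q hp hq => simp only [map_add, add_mul, hp, hq, mul_add]

variable [Coalgebra.IsCocomm k A]

include E in
/-- With an algebraically closed extension the characters span the coordinate ring over a finite space. -/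
theorem exists_span {D : Over (Spec (CommRingCat.of k))} [GrpObj D] [IsCommMonObj D]
    (e : CGrpSh.pts Scheme.fppfPrecoverage D ≅
      CGrpSh2.dualSh Scheme.fppfPrecoverage (CGrpSh.pts Scheme.fppfPrecoverage G)) :
    Module.Finite ↥(Algebra.adjoin K {χ : K ⊗[k] A | IsGL χ}) (K ⊗[k] A) := by
  classical
  obtain ⟨W, hWfg, hW⟩ := exists_bound E e
  obtain ⟨w, hw⟩ := hWfg
  let S := Algebra.adjoin K {χ : K ⊗[k] A | IsGL χ}
  let M : Submodule ↥S (K ⊗[k] A) := Submodule.span ↥S ↑(w.image fun x => (1 : K) ⊗ₜ[k] x)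
  refine ⟨⟨w.image fun x => (1 : K) ⊗ₜ[k] x, eq_top_iff.2 fun x _ => ?_⟩⟩
  show x ∈ M
  induction x using TensorProduct.induction_on with
  | zero => exact zero_mem _
  | add p q hp hq => exact add_mem (hp trivial) (hq trivial)
  | tmul s a =>
  suffices h : (1 : K) ⊗ₜ[k] a ∈ M.restrictScalars K by
    have := (M.restrictScalars K).smul_mem s h
    rwa [TensorProduct.smul_tmul', smul_eq_mul, mul_one] at this
  by_contra hmem
  obtain ⟨Λ, hΛa, hΛ⟩ := Submodule.exists_le_ker_of_notMem hmem
  apply hΛa
  have hkill : ∀ χ : K ⊗[k] A, IsGL χ → ∀ x ∈ W, Λ (χ * ((1 : K) ⊗ₜ[k] x)) = 0 := by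
    intro χ hχ x hx
    rw [← hw] at hx
    induction hx using Submodule.span_induction with
    | mem x hx =>
      refine hΛ (show χ * ((1 : K) ⊗ₜ[k] x) ∈ M from ?_)
      exact M.smul_mem ⟨χ, Algebra.subset_adjoin hχ⟩ (Submodule.subset_span (Finset.mem_coe.2
        (Finset.mem_image_of_mem _ hx)))
    | zero => simp
    | add p q _ _ hp hq => rw [TensorProduct.tmul_add, mul_add, map_add, hp, hq, add_zero]
    | smul c p _ hp =>
      rw [TensorProduct.tmul_smul, mul_smul_comm, ← IsScalarTower.algebraMap_smul K c, map_smul, hp, smul_zero]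
  obtain ⟨C, haC⟩ := exists_subC (k := k) a
  let R := K ⊗[k] DQ C
  let f₀ : R ⊗[k] A := bc Algebra.TensorProduct.includeRight (univ C)
  have hf₀ : IsGL f₀ := (isGL_univ C).map _
  haveI : IsArtinianRing R := IsArtinianRing.of_finite K R
  have hz : evR K Λ R f₀ = 0 := by
    refine eq_zero_of_localization _ fun m hm => ?_
    let Rm := Localization.AtPrime m
    let π : R →ₐ[K] Rm := IsScalarTower.toAlgHom K R Rm
    show algebraMap R Rm (evR K Λ R f₀) = 0
    rw [← IsScalarTower.coe_toAlgHom' K R Rm, ← evR_bc]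
    let f₁ := bc (π.restrictScalars k) f₀
    have hf₁ : IsGL f₁ := hf₀.map _
    let q : Rm →ₐ[K] IsLocalRing.ResidueField Rm := IsScalarTower.toAlgHom K Rm _
    haveI : Module.Finite K (IsLocalRing.ResidueField Rm) := Module.Finite.of_surjective (q.comp π).toLinearMap
      (IsLocalRing.residue_surjective.comp (IsArtinianRing.localization_surjective m.primeCompl Rm))
    haveI : Algebra.IsIntegral K (IsLocalRing.ResidueField Rm) := Algebra.IsIntegral.of_finite K _
    let eK : K ≃ₐ[K] IsLocalRing.ResidueField Rm := AlgEquiv.ofBijective (Algebra.ofId K _)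
      IsAlgClosed.algebraMap_bijective_of_isIntegral
    let ρK : Rm →ₐ[K] K := eK.symm.toAlgHom.comp q
    let χ := bc (ρK.restrictScalars k) f₁
    have hχ : IsGL χ := hf₁.map _
    obtain ⟨χ', hχ', hinv⟩ := exists_inv_isGL E hχ
    let inc := IsScalarTower.toAlgHom k K Rm
    have hρinc : (ρK.restrictScalars k).comp inc = AlgHom.id k K := AlgHom.ext fun c => ρK.commutes c
    have hbc : ∀ t : K ⊗[k] A, bc (ρK.restrictScalars k) (bc inc t) = t := fun t => by
      induction t using TensorProduct.induction_on with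
      | zero => simp
      | tmul r b => simpa [bc] using congrArg (· ⊗ₜ[k] b) (AlgHom.congr_fun hρinc r)
      | add p q hp hq => simp only [map_add, hp, hq]
    let g := bc inc χ' * f₁
    have hg : g ∈ LinearMap.range (W.subtype.lTensor Rm) := by
      refine hW Rm K (ρK.restrictScalars k)
        (eK.symm.surjective.comp IsLocalRing.residue_surjective) (fun x hx => ?_) g ((hχ'.map inc).mul' hf₁) ?_
      · have hmax : x ∈ IsLocalRing.maximalIdeal Rm := by
          rw [← IsLocalRing.residue_eq_zero_iff]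
          exact eK.symm.injective (hx.trans (map_zero eK.symm).symm)
        obtain ⟨n, hn⟩ := IsArtinianRing.isNilpotent_jacobson_bot (R := Rm)
        refine ⟨n, ?_⟩
        have := Ideal.pow_mem_pow (show x ∈ Ideal.jacobson (⊥ : Ideal Rm) by
          rw [IsLocalRing.jacobson_eq_maximalIdeal ⊥ bot_ne_top]; exact hmax) n
        rwa [hn] at this
      · rw [map_mul, hbc]; exact hinv
    have hf₁eq : f₁ = bc inc χ * g := by
      show _ = bc inc χ * (bc inc χ' * f₁)
      rw [← mul_assoc, ← map_mul, mul_comm χ, hinv, map_one, one_mul]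
    show evR K Λ Rm f₁ = 0
    rw [hf₁eq]
    obtain ⟨t, ht⟩ := hg
    rw [← ht]
    clear ht
    induction t using TensorProduct.induction_on with
    | zero => simp
    | add p q hp hq => rw [map_add, mul_add, map_add, hp, hq, add_zero]
    | tmul r x => rw [LinearMap.lTensor_tmul, Submodule.coe_subtype, evR_shift, hkill χ hχ x x.2, map_zero, mul_zero]
  -- read off the coefficient
  let P : R →ₗ[k] K := (TensorProduct.rid k K).toLinearMap ∘ₗ
    LinearMap.lTensor K ((LinearMap.applyₗ ⟨a, haC⟩).comp (ev C))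
  have hP : ∀ (c : K) (q : DQ C), P (c ⊗ₜ q) = ev C q ⟨a, haC⟩ • c := fun c q => by
    simp only [P, LinearMap.comp_apply, LinearMap.lTensor_tmul, LinearEquiv.coe_coe, TensorProduct.rid_tmul]
    rfl
  have e2 := congrArg P hz
  simp only [f₀, MilnorMoore.univ, map_sum, bc, Algebra.TensorProduct.map_tmul, AlgHom.id_apply, evR_tmul,
    map_zero] at e2
  rw [show a = ((⟨a, haC⟩ : C.D) : A) from rfl, ← sum_ev_bar C ⟨a, haC⟩, TensorProduct.tmul_sum, map_sum]
  refine Eq.trans (Finset.sum_congr rfl fun i _ => ?_) e2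
  rw [TensorProduct.tmul_smul]
  refine (map_smul (Λ.restrictScalars k) _ _).trans ((hP _ _).symm.trans (congrArg P ?_))
  show _ = ((1 : K) ⊗ₜ[k] bar C i) *
    ((Λ ((1 : K) ⊗ₜ[k] (Module.finBasis k C.D i : A))) ⊗ₜ[k] (1 : DQ C))
  rw [Algebra.TensorProduct.tmul_mul_tmul, one_mul, mul_one]
  rfl

end Ext

end Groth.Agent.GmDual13481
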