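import Groth.Agent.GmDual13481.Bound
import Groth.Agent.GmDual13481.AlgClosed
import Groth.Agent.GmDual13480.Main
import Groth.Agent.MTBridge.OfHopf
import Groth.Agent.Chev.Divisible
import Groth.Agent.Chev.MultRigid

/-!
A group with representable dual sheaf is an almost-torus.
-/

set_option autoImplicit false
set_option backward.isDefEq.respectTransparency false
set_option backward.isDefEq.respectTransparency.types false
set_option linter.style.haveILetI false
set_option maxHeartbeats 1000000
set_option synthInstance.maxHeartbeats 400000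

universe u

open CategoryTheory CategoryTheory.Limits AlgebraicGeometry
open MonoidalCategory CartesianMonoidalCategory TensorProduct
open scoped MonObj CategoryTheory.Obj

noncomputable section

namespace Groth.Agent.GmDual13481

variable {k : Type u} [Field k] {A : Type u} [CommRing A] [HopfAlgebra k A]

/-- A character with coefficients in a field is group-like after base change. -/
theorem isGroupLikeElem_of_isGL (K : Type u) [Field K] [Algebra k K] {χ : K ⊗[k] A} (hχ : GmDD.IsGL χ) :
    IsGroupLikeElem K χ := by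
  let KA := K ⊗[k] A
  let i : A →ₐ[k] KA := Algebra.TensorProduct.includeRight
  let L : KA →ₐ[k] KA ⊗[K] KA := (Algebra.TensorProduct.includeLeft : KA →ₐ[K] KA ⊗[K] KA).restrictScalars k
  let R : KA →ₐ[k] KA ⊗[K] KA := (Algebra.TensorProduct.includeRight : KA →ₐ[K] KA ⊗[K] KA).restrictScalars k
  have hid : ∀ t : KA, Algebra.TensorProduct.lift (IsScalarTower.toAlgHom k K KA) i (fun _ _ => .all _ _) t = t := by
    intro t
    induction t using TensorProduct.induction_on with
    | zero => simp
    | tmul s a => simp [i, KA]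
    | add p q hp hq => rw [map_add, hp, hq]
  refine ⟨?_, ?_⟩
  · refine Eq.trans ?_ (hχ.one K (AlgHom.id k K))
    clear hχ
    induction χ using TensorProduct.induction_on with
    | zero => simp
    | tmul s a =>
      rw [GmDD.at', Algebra.TensorProduct.lift_tmul, AlgHom.id_apply, TensorProduct.counit_tmul]
      show Coalgebra.counit (R := k) a • Coalgebra.counit (R := K) s = s * algebraMap k K (Coalgebra.counit a)
      rw [CommSemiring.counit_apply, Algebra.smul_def, mul_comm]
    | add p q hp hq => rw [map_add, map_add, hp, hq]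
  · have h := hχ.mul (KA ⊗[K] KA) (IsScalarTower.toAlgHom k K _) (WithConv.toConv (L.comp i))
      (WithConv.toConv (R.comp i))
    have hl : ∀ t : KA, GmDD.at' (IsScalarTower.toAlgHom k K (KA ⊗[K] KA)) (L.comp i) t = t ⊗ₜ[K] (1 : KA) := by
      intro t
      induction t using TensorProduct.induction_on with
      | zero => simp
      | tmul s a =>
        rw [GmDD.at', Algebra.TensorProduct.lift_tmul]
        show algebraMap K (KA ⊗[K] KA) s * (((1 : K) ⊗ₜ[k] a : KA) ⊗ₜ[K] (1 : KA)) = _
        rw [← Algebra.smul_def, TensorProduct.smul_tmul', TensorProduct.smul_tmul', smul_eq_mul, _root_.mul_one]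
      | add p q hp hq => rw [map_add, hp, hq, TensorProduct.add_tmul]
    have hr : ∀ t : KA, GmDD.at' (IsScalarTower.toAlgHom k K (KA ⊗[K] KA)) (R.comp i) t = (1 : KA) ⊗ₜ[K] t := by
      intro t
      induction t using TensorProduct.induction_on with
      | zero => simp
      | tmul s a =>
        rw [GmDD.at', Algebra.TensorProduct.lift_tmul]
        show algebraMap K (KA ⊗[K] KA) s * ((1 : KA) ⊗ₜ[K] ((1 : K) ⊗ₜ[k] a : KA)) = _
        rw [← Algebra.smul_def, ← TensorProduct.tmul_smul, TensorProduct.smul_tmul', smul_eq_mul, _root_.mul_one]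
      | add p q hp hq => rw [map_add, hp, hq, TensorProduct.tmul_add]
    have hc : ∀ t : KA, GmDD.at' (IsScalarTower.toAlgHom k K (KA ⊗[K] KA))
        (WithConv.toConv (L.comp i) * WithConv.toConv (R.comp i)).ofConv t = Coalgebra.comul (R := K) t := by
      intro t
      induction t using TensorProduct.induction_on with
      | zero => simp
      | tmul s a =>
        rw [GmDD.at', Algebra.TensorProduct.lift_tmul, TensorProduct.comul_tmul]
        show algebraMap K (KA ⊗[K] KA) s * (WithConv.toConv (L.comp i) * WithConv.toConv (R.comp i)) a = _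
        rw [AlgHom.convMul_apply, CommSemiring.comul_apply]
        generalize Coalgebra.comul (R := k) a = d
        induction d using TensorProduct.induction_on with
        | zero => simp
        | tmul x y =>
          simp [L, R, i, Algebra.TensorProduct.tmul_mul_tmul, TensorProduct.smul_tmul', ← Algebra.smul_def]
          show (s • ((1 : K) ⊗ₜ[k] x : KA)) ⊗ₜ[K] ((1 : K) ⊗ₜ[k] y : KA) = _
          rw [TensorProduct.smul_tmul, TensorProduct.smul_tmul', smul_eq_mul, _root_.mul_one]
        | add p q hp hq => rw [map_add, mul_add, hp, hq, TensorProduct.tmul_add, map_add]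
      | add p q hp hq => rw [map_add, map_add, hp, hq]
    rw [hc] at h
    rw [h, hl, hr, Algebra.TensorProduct.tmul_mul_tmul, _root_.mul_one, _root_.one_mul]

/-- A group whose dual sheaf is representable is an almost-torus. -/
theorem exists_almost_torus (G : Over (Spec (CommRingCat.of k))) [GrpObj G] [IsCommMonObj G] [IsAffine G.left]
    [LocallyOfFiniteType G.hom] (D : Over (Spec (CommRingCat.of k))) [GrpObj D] [IsCommMonObj D]
    (e : CGrpSh.pts Scheme.fppfPrecoverage D ≅
      CGrpSh2.dualSh Scheme.fppfPrecoverage (CGrpSh.pts Scheme.fppfPrecoverage G)) :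
    ∃ (T Q : Over (Spec (CommRingCat.of k))) (_ : GrpObj T) (_ : GrpObj Q) (j : T ⟶ G) (q : G ⟶ Q)
      (_ : IsMonHom j) (_ : IsMonHom q), Mono j ∧ Red.IsTorus T ∧ AlgGrp.IsKernel j q ∧ Flat q.left ∧
        Surjective q.left ∧ IsFinite Q.hom := by
  obtain ⟨A, iA, eG, heG⟩ := FinHopf.exists_hopf G
  haveI := heG
  let E : GmDD.Coord A G := GmDD.coordOfIso (A := A) eG
  haveI : Coalgebra.IsCocomm k A := WittUnip.isCocomm_of_iso (k := k) (A := A) eG
  haveI : Algebra.FiniteType k A := by
    haveI : IsIso eG.hom.left := inferInstanceAs (IsIso ((Over.forget _).map eG.hom))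
    have h1 : LocallyOfFiniteType (eG.hom.left ≫ G.hom) := inferInstance
    rw [Over.w eG.hom] at h1
    exact RingHom.finiteType_algebraMap.1 ((HasRingHomProperty.Spec_iff (P := @LocallyOfFiniteType)).1 h1)
  let K := AlgebraicClosure k
  haveI : Algebra.FiniteType K (K ⊗[k] A) := inferInstance
  haveI : Coalgebra.IsCocomm K (K ⊗[k] A) := inferInstance
  let S := Algebra.adjoin K {χ : K ⊗[k] A | GmDD.IsGL χ}
  haveI : Module.Finite ↥S (K ⊗[k] A) := exists_span E K e
  obtain ⟨P, iP, π, hP, hπm, hπf⟩ := exists_finite_to_torus (K := K) (K ⊗[k] A) S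
    (Algebra.adjoin_mono fun χ hχ => isGroupLikeElem_of_isGL K hχ)
  haveI := hπm; haveI := hπf
  let w := Spec.map (CommRingCat.ofHom (algebraMap k K))
  let F := Over.pullback w
  obtain ⟨b⟩ := MTBridge.nonempty_bc_specGrp k K A
  let gi : MTBridge.specGrp k A ≅ Grp.mk G := Grp.mkIso' eG
  let x : Grp.mk (Red.bc w G) ≅ MTBridge.specGrp K (K ⊗[k] A) := (MTBridge.bcMapIso w gi).symm ≪≫ b
  let H : Over (Spec (CommRingCat.of K)) := F.obj G
  haveI : IsMonHom x.hom.hom.hom := x.hom.hom.isMonHom_hom
  haveI : IsIso x.hom.hom.hom.left :=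
    inferInstanceAs (IsIso ((Over.forget _).map ((Grp.forget _).map x.hom)))
  haveI : LocallyOfFiniteType H.hom := inferInstanceAs (LocallyOfFiniteType (pullback.snd G.hom w))
  haveI : IsAffine H.left := inferInstanceAs (IsAffine (pullback G.hom w))
  haveI : IsCommMonObj H := inferInstanceAs (IsCommMonObj (F.obj G))
  haveI : IsFinite (x.hom.hom.hom ≫ π).left := inferInstanceAs (IsFinite (x.hom.hom.hom.left ≫ π.left))
  obtain ⟨T', Q', iT', iQ', j', q', hj'm, hq'm, hj'c, hT', hker', hq'f, hq's, hQ'⟩ :=
    exists_torus_finite_quotient H P hP (x.hom.hom.hom ≫ π)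
  haveI := hj'm; haveI := hq'm; haveI := hj'c; haveI := hq'f; haveI := hq's; haveI := hQ'
  haveI : Mono j'.left := inferInstance
  haveI : Mono j' := Over.mono_of_mono_left j'
  haveI : IsCommMonObj T' := ⟨by
    rw [← cancel_mono j', Category.assoc, IsMonHom.mul_hom, ← BraidedCategory.braiding_naturality_assoc,
      IsCommMonObj.mul_comm]⟩
  haveI : IsAffine T'.left := isAffine_of_isAffineHom j'.left
  haveI : IsAffine Q'.left := isAffine_of_isAffineHom Q'.hom
  haveI : IsLocallyNoetherian Q'.left := LocallyOfFiniteType.isLocallyNoetherian Q'.hom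
  haveI : LocallyOfFiniteType q'.left := by
    haveI : LocallyOfFiniteType (q'.left ≫ Q'.hom) := by rw [Over.w]; infer_instance
    exact locallyOfFiniteType_of_comp q'.left Q'.hom
  haveI : IsCommMonObj Q' := Chev.isCommMonObj_of_surjective q'
  obtain ⟨n, hn, hQn⟩ := Chev.exists_pow_eq_one_of_finite Q'
  haveI := Chev.isMonHom_pow G n
  -- the image of multiplication by `n`
  haveI : QuasiCompact (𝟙 G ^ n).left := inferInstance
  obtain ⟨I, hI, ii, g, hiim, hgm, hgi, hiic, hgd, -, hgs⟩ := GrpField.SchImg.exists_image (𝟙 G ^ n)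
  haveI := hiim; haveI := hgm; haveI := hiic; haveI := hgd; haveI := hgs
  haveI : IsAffine I.left := isAffine_of_isAffineHom ii.left
  haveI : Mono ii.left := inferInstance
  haveI : Mono ii := Over.mono_of_mono_left ii
  haveI : LocallyOfFiniteType I.hom := by rw [← Over.w ii]; infer_instance
  haveI : Flat g.left := GrpField.flat_of_schDom g g.left.ker_eq_bot
  haveI : IsMonHom (F.map g) := inferInstance
  haveI : IsMonHom (F.map ii) := inferInstance
  haveI : Mono (F.map ii) := inferInstance
  have hpbg : IsPullback (pullback.fst G.hom w) (F.map g).left g.left (pullback.fst I.hom w) := by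
    refine IsPullback.of_bot ?_ (pullback.lift_fst _ _ _).symm (IsPullback.of_hasPullback I.hom w)
    have h : (F.map g).left ≫ pullback.snd I.hom w = pullback.snd G.hom w := Over.w (F.map g)
    rw [h, Over.w g]
    exact IsPullback.of_hasPullback G.hom w
  haveI : Flat (F.map g).left := MorphismProperty.of_isPullback hpbg inferInstance
  haveI : Surjective (F.map g).left := MorphismProperty.of_isPullback hpbg inferInstance
  haveI : Epi (F.map g).left := Flat.epi_of_flat_of_surjective _
  haveI : Epi (F.map g) := Over.epi_of_epi_left _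
  have hgK : F.map g ≫ F.map ii = 𝟙 H ^ n := by
    rw [← F.map_comp, hgi, Chev.bc_map_pow, F.map_id]
  have hkill : (𝟙 H ^ n) ≫ q' = 1 := by
    rw [MonObj.pow_comp, Category.id_comp, ← Category.comp_id q', ← MonObj.comp_pow, hQn, MonObj.comp_one]
  have hI1 : F.map ii ≫ q' = 1 := by
    rw [← cancel_epi (F.map g), MonObj.comp_one, ← Category.assoc, hgK, hkill]
  let θ : F.obj I ⟶ T' := hker'.lift (F.map ii) (toUnit _) (hI1.trans Hom.one_def)
  have hθ : θ ≫ j' = F.map ii := hker'.lift_fst _ _ _
  haveI : IsMonHom θ := GmDual13480.isMonHom_of_mono_comp θ j' (F.map ii) hθ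
  obtain ⟨hTf, hTs⟩ := GmDual13480.flat_surjective_pow T' hT' hn
  haveI : QuasiCompact (𝟙 T' ^ n).left := inferInstance
  have hjn : (j' ≫ F.map g) ≫ F.map ii = (𝟙 T' ^ n) ≫ j' := by
    rw [Category.assoc, hgK, MonObj.comp_pow, Category.comp_id, MonObj.pow_comp, Category.id_comp]
  obtain ⟨ψ, hψ⟩ := Chev.MultRigid.exists_desc_fppf (𝟙 T' ^ n) (j' ≫ F.map g) fun X a b hab => by
    rw [← cancel_mono (F.map ii), Category.assoc a, hjn, Category.assoc b, hjn, ← Category.assoc, hab, Category.assoc]
  haveI : Epi (𝟙 T' ^ n).left := Flat.epi_of_flat_of_surjective _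
  haveI : Epi (𝟙 T' ^ n) := Over.epi_of_epi_left _
  have hψii : ψ ≫ F.map ii = j' := by
    rw [← cancel_epi (𝟙 T' ^ n), ← Category.assoc, hψ, hjn]
  haveI : IsIso θ := ⟨ψ, by rw [← cancel_mono (F.map ii), Category.assoc, hψii, hθ, Category.id_comp],
    by rw [← cancel_mono j', Category.assoc, hθ, hψii, Category.id_comp]⟩
  haveI : IsMonHom (asIso θ).hom := ‹IsMonHom θ›
  obtain ⟨r, ⟨hr⟩⟩ := Chev.exists_split_algClosed hT'
  have hIt : Red.IsTorus I := Chev.isTorus_of_isSplit w (r := r)
    ⟨(Grp.mkIso' (asIso θ) : Grp.mk (F.obj I) ≅ Grp.mk T') ≪≫ hr⟩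
  -- the quotient
  obtain ⟨Q, hQ, q, hqm, hqf, hqs, hqp, hker, hsep, -, -⟩ := S3030.result k I G ii
    (fun X a x => ⟨x, by rw [_root_.mul_comm a, _root_.mul_assoc, mul_inv_cancel, _root_.mul_one]⟩)
  haveI := hqm; haveI := hqf; haveI := hqs; haveI := hqp; haveI := hsep
  haveI : LocallyOfFiniteType Q.hom := by
    haveI : LocallyOfFiniteType (q.left ≫ Q.hom) := by rw [Over.w q]; infer_instance
    exact S5938.result q.left Q.hom
  haveI : Finite (F.obj Q).left := by
    haveI : QuasiCompact q'.left := inferInstance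
    obtain ⟨φ, hφ⟩ := Chev.MultRigid.exists_desc_fppf q' (F.map q) fun X a b hab => by
      obtain ⟨t, ht⟩ : ∃ t : X ⟶ T', t ≫ j' = a * b⁻¹ :=
        ⟨hker'.lift (a * b⁻¹) (toUnit _) (by
          rw [MonObj.mul_comp, GrpObj.inv_comp, hab, mul_inv_cancel]; exact Hom.one_def), hker'.lift_fst _ _ _⟩
      have h1 : (a * b⁻¹) ≫ F.map q = 1 := by
        have h0 : F.map ii ≫ F.map q = 1 := by
          rw [← F.map_comp, show ii ≫ q = (1 : I ⟶ Q) from hker.w.trans Hom.one_def.symm, Chev.bc_map_one]
        rw [← ht, ← hψii, Category.assoc, Category.assoc, h0, MonObj.comp_one, MonObj.comp_one]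
      rwa [MonObj.mul_comp, GrpObj.inv_comp, mul_inv_eq_one] at h1
    haveI : Finite Q'.left := Set.finite_univ_iff.1
      ((Q'.hom.finite_preimage_singleton (IsLocalRing.closedPoint K)).subset
        fun x _ => Subsingleton.elim (α := PrimeSpectrum K) _ _)
    haveI : Surjective (F.map q).left := by
      have hpb : IsPullback (pullback.fst G.hom w) (F.map q).left q.left (pullback.fst Q.hom w) := by
        refine IsPullback.of_bot ?_ (pullback.lift_fst _ _ _).symm (IsPullback.of_hasPullback Q.hom w)
        have h : (F.map q).left ≫ pullback.snd Q.hom w = pullback.snd G.hom w := Over.w (F.map q)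
        rw [h, Over.w q]
        exact IsPullback.of_hasPullback G.hom w
      exact MorphismProperty.of_isPullback hpb inferInstance
    haveI : Surjective φ.left := by
      haveI : Surjective (q'.left ≫ φ.left) := by rw [← Over.comp_left, hφ]; infer_instance
      exact Surjective.of_comp q'.left φ.left
    exact Finite.of_surjective _ φ.left.surjective
  haveI : Surjective w := ⟨fun _ => ⟨IsLocalRing.closedPoint _, Subsingleton.elim (α := PrimeSpectrum k) _ _⟩⟩
  haveI : Finite Q.left := by
    haveI : Finite ↥(pullback Q.hom w) := ‹Finite (F.obj Q).left›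
    haveI : Surjective (pullback.fst Q.hom w) := MorphismProperty.pullback_fst _ _ ‹_›
    exact Finite.of_surjective _ (pullback.fst Q.hom w).surjective
  haveI : CompactSpace Q.left := ⟨Set.finite_univ.isCompact⟩
  haveI : QuasiCompact Q.hom := (quasiCompact_iff_compactSpace Q.hom).2 inferInstance
  haveI : LocallyQuasiFinite Q.hom := .of_finite_preimage_singleton _ fun b => Set.toFinite _
  exact ⟨I, Q, hI, hQ, ii, q, hiim, hqm, inferInstance, hIt, hker, hqf, hqs, SpQS.isFinite_of_finite Q.hom⟩

end Groth.Agent.GmDual13481
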